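import Mathlib

set_option autoImplicit false

namespace Cfsg.Agent.Lib.Helper65

universe u

/-- In a nilpotent group, elements of coprime orders commute. -/
theorem commute_of_coprime_of_nilpotent (K : Type u) [Group K] [Group.IsNilpotent K] :
    ∀ a b : K, (orderOf a).Coprime (orderOf b) → a * b = b * a := by
  refine Group.nilpotent_center_quotient_ind
    (P := fun K _ _ => ∀ a b : K, (orderOf a).Coprime (orderOf b) → a * b = b * a) K ?_ ?_
  · intro K _ _ a b _
    exact Subsingleton.elim _ _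
  · intro K _ _ ih a b hab
    have h1 : (orderOf (QuotientGroup.mk' (Subgroup.center K) a)).Coprime
        (orderOf (QuotientGroup.mk' (Subgroup.center K) b)) :=
      Nat.Coprime.coprime_dvd_left (orderOf_map_dvd _ a)
        (Nat.Coprime.coprime_dvd_right (orderOf_map_dvd _ b) hab)
    have h2 := ih _ _ h1
    set c : K := a * b * a⁻¹ * b⁻¹ with hc
    have hcZ : c ∈ Subgroup.center K := by
      rw [← QuotientGroup.ker_mk' (Subgroup.center K), MonoidHom.mem_ker, hc]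
      simp only [map_mul, map_inv]
      rw [h2]
      group
    have hcc : ∀ x : K, x * c = c * x := fun x => Subgroup.mem_center_iff.mp hcZ x
    have e1 : a * b * a⁻¹ = c * b := by rw [hc]; group
    have e2 : c ^ orderOf b = 1 := by
      have : (c * b) ^ orderOf b = 1 := by
        rw [← e1, conj_pow, pow_orderOf_eq_one]; group
      have hcb : Commute c b := (hcc b).symm
      rw [hcb.mul_pow, pow_orderOf_eq_one, mul_one] at this
      exact this
    have e3 : b * a⁻¹ * b⁻¹ = a⁻¹ * c := by rw [hc]; group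
    have e4 : c ^ orderOf a = 1 := by
      have : (a⁻¹ * c) ^ orderOf a = 1 := by
        rw [← e3, conj_pow, inv_pow, pow_orderOf_eq_one]; group
      have hac : Commute a⁻¹ c := hcc a⁻¹
      rw [hac.mul_pow, inv_pow, pow_orderOf_eq_one, inv_one, one_mul] at this
      exact this
    have e5 : orderOf c ∣ Nat.gcd (orderOf a) (orderOf b) :=
      Nat.dvd_gcd (orderOf_dvd_of_pow_eq_one e4) (orderOf_dvd_of_pow_eq_one e2)
    rw [Nat.Coprime] at hab
    rw [hab, Nat.dvd_one, orderOf_eq_one_iff] at e5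
    have : a * b * a⁻¹ * b⁻¹ = 1 := e5
    calc a * b = (a * b * a⁻¹ * b⁻¹) * (b * a) := by group
      _ = b * a := by rw [this, one_mul]

/-- A normal Sylow subgroup contains every element of `p`-power order. -/
theorem mem_sylow_of_normal {K : Type u} [Group K] [Finite K] {p : ℕ} [Fact p.Prime]
    (P : Sylow p K) [hP : (P : Subgroup K).Normal] (y : K) (k : ℕ) (hy : orderOf y = p ^ k) :
    y ∈ (P : Subgroup K) := by
  have hpg : IsPGroup p (Subgroup.zpowers y) :=
    IsPGroup.of_card (n := k) (by rw [Nat.card_zpowers, hy])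
  obtain ⟨Q, hQ⟩ := hpg.exists_le_sylow
  obtain ⟨g, hg⟩ := MulAction.exists_smul_eq K P Q
  have hPQ : P = Q := by rw [← hg, Sylow.smul_eq_of_normal]
  rw [hPQ]
  exact hQ (Subgroup.mem_zpowers y)

/-- In a finite nilpotent subgroup `A` of `G`, if all `p`-subgroups of `G` are commutative, then
every element of `p`-power order of `A` commutes with every element of `A`. -/
theorem nilpotent_commute_pElement {G : Type u} [Group G] [Finite G] (p : ℕ) [Fact p.Prime]
    (A : Subgroup G) (hA : Group.IsNilpotent A)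
    (hab : ∀ Q : Subgroup G, IsPGroup p Q → ∀ u ∈ Q, ∀ v ∈ Q, u * v = v * u)
    (x : G) (hx : x ∈ A) (k : ℕ) (hxp : orderOf x = p ^ k) (a : G) (ha : a ∈ A) :
    a * x = x * a := by
  have hp : p.Prime := Fact.out
  set x' : A := ⟨x, hx⟩ with hx'
  set a' : A := ⟨a, ha⟩ with ha'
  have hx'ord : orderOf x' = p ^ k := by rw [hx', Subgroup.orderOf_mk, hxp]
  obtain ⟨j, m', hm', hm⟩ := Nat.exists_eq_pow_mul_and_not_dvd (orderOf_pos a').ne' p hp.ne_one
  have hm'pos : 0 < m' := by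
    rcases Nat.eq_zero_or_pos m' with h0 | h0
    · rw [h0] at hm'; exact absurd (dvd_zero p) hm'
    · exact h0
  -- the p-part and the p'-part of a'
  set b : A := a' ^ m' with hb
  set c : A := a' ^ p ^ j with hc
  have hbord : orderOf b = p ^ j := by
    rw [hb, orderOf_pow' a' hm'pos.ne', hm, Nat.gcd_eq_right (Dvd.intro_left _ rfl),
      Nat.mul_div_cancel _ hm'pos]
  have hcord : orderOf c = m' := by
    rw [hc, orderOf_pow' a' (pow_ne_zero _ hp.ne_zero), hm, Nat.gcd_eq_right (Dvd.intro _ rfl),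
      Nat.mul_div_cancel_left _ (pow_pos hp.pos _)]
  have hcop : Nat.Coprime p m' := (Nat.Prime.coprime_iff_not_dvd hp).mpr hm'
  -- c commutes with x'
  have hcx : c * x' = x' * c := by
    apply commute_of_coprime_of_nilpotent
    rw [hcord, hx'ord]
    exact (Nat.Coprime.pow_left k hcop).symm
  -- b commutes with x'
  have hbx : b * x' = x' * b := by
    let P : Sylow p A := default
    have hbP : b ∈ (P : Subgroup A) := mem_sylow_of_normal P b j hbord
    have hxP : x' ∈ (P : Subgroup A) := mem_sylow_of_normal P x' k hx'ord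
    have hQ : IsPGroup p ((P : Subgroup A).map A.subtype) := P.isPGroup'.map A.subtype
    have := hab _ hQ (b : G) (Subgroup.mem_map_of_mem _ hbP) (x' : G)
      (Subgroup.mem_map_of_mem _ hxP)
    exact Subtype.ext this
  -- a' is a product of powers of b and c
  have hcop' : IsCoprime ((p ^ j : ℕ) : ℤ) ((m' : ℕ) : ℤ) :=
    Nat.isCoprime_iff_coprime.mpr (Nat.Coprime.pow_left j hcop)
  obtain ⟨u, v, huv⟩ := hcop'
  have ha'eq : a' = c ^ u * b ^ v := by
    have h1 : c ^ u = a' ^ (u * ((p ^ j : ℕ) : ℤ)) := by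
      rw [hc, ← zpow_natCast, ← zpow_mul, mul_comm]
    have h2 : b ^ v = a' ^ (v * ((m' : ℕ) : ℤ)) := by
      rw [hb, ← zpow_natCast, ← zpow_mul, mul_comm]
    rw [h1, h2, ← zpow_add, huv, zpow_one]
  have hcomm : Commute a' x' := by
    rw [ha'eq]
    exact Commute.mul_left (Commute.zpow_left hcx u) (Commute.zpow_left hbx v)
  exact congrArg Subtype.val hcomm.eq

/-- If `p ^ 2` does not divide the order of `G`, all `p`-subgroups of `G` are commutative. -/
theorem pSubgroup_comm_of_not_sq_dvd {G : Type u} [Group G] [Finite G] (p : ℕ) [Fact p.Prime]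
    (h : ¬ p ^ 2 ∣ Nat.card G) (Q : Subgroup G) (hQ : IsPGroup p Q) :
    ∀ u ∈ Q, ∀ v ∈ Q, u * v = v * u := by
  have hp : p.Prime := Fact.out
  obtain ⟨k, hk⟩ := IsPGroup.iff_card.mp hQ
  have hk1 : k ≤ 1 := by
    by_contra hk2
    apply h
    calc p ^ 2 ∣ p ^ k := pow_dvd_pow p (by omega)
      _ = Nat.card Q := hk.symm
      _ ∣ Nat.card G := Subgroup.card_subgroup_dvd_card Q
  intro u hu v hv
  interval_cases k
  · rw [pow_zero] at hk
    have hbot : Q = ⊥ := Subgroup.card_eq_one.mp hk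
    rw [hbot, Subgroup.mem_bot] at hu hv
    rw [hu, hv]
  · rw [pow_one] at hk
    have hcyc : IsCyclic Q := isCyclic_of_prime_card hk
    have : (⟨u, hu⟩ : Q) * ⟨v, hv⟩ = ⟨v, hv⟩ * ⟨u, hu⟩ := by
      obtain ⟨g, hg⟩ := hcyc.exists_zpow_surjective
      obtain ⟨i, hi⟩ := hg ⟨u, hu⟩
      obtain ⟨l, hl⟩ := hg ⟨v, hv⟩
      rw [← hi, ← hl]
      simp only
      rw [← zpow_add, ← zpow_add, add_comm]
    exact congrArg Subtype.val this

section Cover

variable {G : Type u} [Group G]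

/-- In a cover of minimum cardinality by proper subgroups, two distinct members generate the
whole group. -/
theorem minCover_sup_eq_top (𝓐 : Finset (Subgroup G))
    (hcov : (∀ A ∈ 𝓐, A ≠ ⊤) ∧ (∀ g : G, ∃ A ∈ 𝓐, g ∈ A))
    (hmin : ∀ 𝓑 : Finset (Subgroup G), (∀ A ∈ 𝓑, A ≠ ⊤) ∧ (∀ g : G, ∃ A ∈ 𝓑, g ∈ A) →
      𝓐.card ≤ 𝓑.card)
    {A B : Subgroup G} (hA : A ∈ 𝓐) (hB : B ∈ 𝓐) (hAB : A ≠ B) : A ⊔ B = ⊤ := by
  classical
  by_contra hne
  set 𝓑 : Finset (Subgroup G) := insert (A ⊔ B) ((𝓐.erase A).erase B) with h𝓑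
  have h1 : (∀ C ∈ 𝓑, C ≠ ⊤) ∧ (∀ g : G, ∃ C ∈ 𝓑, g ∈ C) := by
    constructor
    · intro C hC
      rw [h𝓑, Finset.mem_insert] at hC
      rcases hC with rfl | hC
      · exact hne
      · exact hcov.1 C (Finset.mem_of_mem_erase (Finset.mem_of_mem_erase hC))
    · intro g
      obtain ⟨C, hC, hg⟩ := hcov.2 g
      by_cases hCA : C = A
      · exact ⟨A ⊔ B, Finset.mem_insert_self _ _, (le_sup_left : A ≤ A ⊔ B) (hCA ▸ hg)⟩
      · by_cases hCB : C = B
        · exact ⟨A ⊔ B, Finset.mem_insert_self _ _, (le_sup_right : B ≤ A ⊔ B) (hCB ▸ hg)⟩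
        · refine ⟨C, ?_, hg⟩
          rw [h𝓑]
          apply Finset.mem_insert_of_mem
          exact Finset.mem_erase.mpr ⟨hCB, Finset.mem_erase.mpr ⟨hCA, hC⟩⟩
  have h2 := hmin 𝓑 h1
  have hBmem : B ∈ 𝓐.erase A := Finset.mem_erase.mpr ⟨Ne.symm hAB, hB⟩
  have h3 : 𝓑.card ≤ ((𝓐.erase A).erase B).card + 1 := Finset.card_insert_le _ _
  have h4 : ((𝓐.erase A).erase B).card = (𝓐.erase A).card - 1 := Finset.card_erase_of_mem hBmem
  have h5 : (𝓐.erase A).card = 𝓐.card - 1 := Finset.card_erase_of_mem hA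
  have h6 : 0 < (𝓐.erase A).card := Finset.card_pos.mpr ⟨B, hBmem⟩
  omega

/-- In a cover of minimum cardinality, a proper subgroup contains at most one member. -/
theorem minCover_unique_of_le (𝓐 : Finset (Subgroup G))
    (hcov : (∀ A ∈ 𝓐, A ≠ ⊤) ∧ (∀ g : G, ∃ A ∈ 𝓐, g ∈ A))
    (hmin : ∀ 𝓑 : Finset (Subgroup G), (∀ A ∈ 𝓑, A ≠ ⊤) ∧ (∀ g : G, ∃ A ∈ 𝓑, g ∈ A) →
      𝓐.card ≤ 𝓑.card)
    {M : Subgroup G} (hM : M ≠ ⊤) {A B : Subgroup G} (hA : A ∈ 𝓐) (hB : B ∈ 𝓐)
    (hAM : A ≤ M) (hBM : B ≤ M) : A = B := by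
  by_contra hAB
  have := minCover_sup_eq_top 𝓐 hcov hmin hA hB hAB
  apply hM
  rw [eq_top_iff, ← this]
  exact sup_le hAM hBM

end Cover

/-- Criterion: a finite group with two non-commuting elements of `p`-power order, whose
centralizers lie in a common proper subgroup, and whose `p`-subgroups are all commutative,
has no nilpotent cover of minimum cardinality. -/
theorem no_nilpotent_minCover_of_pair {G : Type u} [Group G] [Finite G] (p : ℕ) [Fact p.Prime]
    (hab : ∀ Q : Subgroup G, IsPGroup p Q → ∀ u ∈ Q, ∀ v ∈ Q, u * v = v * u)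
    (x y : G) (kx ky : ℕ) (hx : orderOf x = p ^ kx) (hy : orderOf y = p ^ ky)
    (hxy : x * y ≠ y * x)
    (M : Subgroup G) (hM : M ≠ ⊤) (hxM : ∀ g : G, g * x = x * g → g ∈ M)
    (hyM : ∀ g : G, g * y = y * g → g ∈ M) :
    ¬ ∃ 𝓐 : Finset (Subgroup G), ((∀ A ∈ 𝓐, A ≠ ⊤) ∧ (∀ g : G, ∃ A ∈ 𝓐, g ∈ A)) ∧
      (∀ 𝓑 : Finset (Subgroup G), (∀ A ∈ 𝓑, A ≠ ⊤) ∧ (∀ g : G, ∃ A ∈ 𝓑, g ∈ A) →
        𝓐.card ≤ 𝓑.card) ∧ (∀ A ∈ 𝓐, Group.IsNilpotent ↥A) := by
  rintro ⟨𝓐, hcov, hmin, hnil⟩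
  obtain ⟨A, hA, hxA⟩ := hcov.2 x
  obtain ⟨B, hB, hyB⟩ := hcov.2 y
  have hAM : A ≤ M := fun a ha =>
    hxM a (nilpotent_commute_pElement p A (hnil A hA) hab x hxA kx hx a ha)
  have hBM : B ≤ M := fun b hb =>
    hyM b (nilpotent_commute_pElement p B (hnil B hB) hab y hyB ky hy b hb)
  have hAB : A = B := minCover_unique_of_le 𝓐 hcov hmin hM hA hB hAM hBM
  subst hAB
  exact hxy (nilpotent_commute_pElement p A (hnil A hA) hab y hyB ky hy x hxA)

end Cfsg.Agent.Lib.Helper65
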