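import Mathlib
import Cfsg.Prelude.Def_Local
import Cfsg.Prelude.Def_CaseTheorems
import Cfsg.Prelude.Def_OddOrderLocal
import Cfsg.Agent.Lib.Helper65.CoreKill
import Cfsg.Agent.S0215

/-!
Groups of "early characteristic 2 type": some maximal 2-local subgroup `M` has `Z(O_2(M))`
non-cyclic (helper65, for S3244).

Assume every maximal 2-local `M` has cyclic `Z(O_2(M))` and `C_{C(c)}(O_2(C(c))) ≤ O_2(C(c))` for
all involutions `c`.  Then every maximal 2-local is the centralizer of a unique involution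
("special" involutions), a Sylow 2-subgroup of the centralizer of a special involution `c`
centralizes no involution other than `c`, and a maximality argument on 2-subgroups centralizing
two distinct commuting special involutions (which exist by Glauberman's Z*-theorem) gives a
contradiction.
-/

set_option autoImplicit false

namespace Cfsg.Agent.Lib.Helper65

open Cfsg

section TwoLocal

variable {G : Type*} [Group G] [Finite G]

omit [Finite G] in
theorem isPGroup_zpowers_of_sq {c : G} (hcc : c * c = 1) : IsPGroup 2 (Subgroup.zpowers c) := by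
  apply IsPGroup.of_card_dvd_pow (n := 1)
  rw [Nat.card_zpowers]
  apply orderOf_dvd_of_pow_eq_one
  rw [pow_one, pow_two]; exact hcc

omit [Finite G] in
theorem isTwoLocal_centralizer {c : G} (hc1 : c ≠ 1) (hcc : c * c = 1) :
    IsTwoLocal (Subgroup.centralizer ({c} : Set G)) :=
  ⟨Subgroup.zpowers c, isPGroup_zpowers_of_sq hcc, fun h => hc1 (Subgroup.zpowers_eq_bot.mp h),
    (normalizer_zpowers_eq_centralizer hc1 hcc).symm⟩

theorem exists_isMaximalTwoLocal_ge {N : Subgroup G} (hN : IsTwoLocal N) :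
    ∃ M : Subgroup G, IsMaximalTwoLocal M ∧ N ≤ M := by
  obtain ⟨M, hNM, hMmax⟩ := Set.Finite.exists_le_maximal
    (s := {M' : Subgroup G | IsTwoLocal M'}) (Set.toFinite _) hN
  exact ⟨M, ⟨hMmax.prop, fun N' hN' hMN' => le_antisymm (hMmax.le_of_ge hN' hMN') hMN'⟩, hNM⟩

/-- `O_2(M)` as a subgroup of the ambient group. -/
abbrev pCoreTwoMap (M : Subgroup G) : Subgroup G := (pCore 2 ↥M).map M.subtype

omit [Finite G] in
theorem pCoreTwoMap_le (M : Subgroup G) : pCoreTwoMap M ≤ M := Subgroup.map_subtype_le _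

omit [Finite G] in
theorem pCoreTwoMap_isPGroup (M : Subgroup G) : IsPGroup 2 (pCoreTwoMap M) := by
  have : Fact (Nat.Prime 2) := ⟨Nat.prime_two⟩
  exact (Cfsg.Agent.Lib.Helper22.pCore_isPGroup' 2 ↥M).map M.subtype

omit [Finite G] in
theorem pCoreTwoMap_conj_mem {M : Subgroup G} {m x : G} (hm : m ∈ M) (hx : x ∈ pCoreTwoMap M) :
    m * x * m⁻¹ ∈ pCoreTwoMap M := by
  obtain ⟨y, hy, rfl⟩ := hx
  have hn : (pCore 2 ↥M).Normal := Cfsg.Agent.Lib.Helper22.pCore_normal' 2 ↥M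
  exact ⟨⟨m, hm⟩ * y * ⟨m, hm⟩⁻¹, hn.conj_mem y hy ⟨m, hm⟩, rfl⟩

omit [Finite G] in
theorem le_pCoreTwoMap {M Y : Subgroup G} (hYM : Y ≤ M) (hY : IsPGroup 2 Y)
    (hn : ∀ m ∈ M, ∀ y ∈ Y, m * y * m⁻¹ ∈ Y) : Y ≤ pCoreTwoMap M := by
  have h1 : (Y.subgroupOf M).Normal := by
    constructor
    intro n hn' g
    rw [Subgroup.mem_subgroupOf] at hn' ⊢
    exact hn g g.2 n hn'
  have h2 : IsPGroup 2 (Y.subgroupOf M) := hY.comap_subtype
  have h3 : Y.subgroupOf M ≤ pCore 2 ↥M := le_sSup ⟨h1, h2⟩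
  intro y hy
  exact ⟨⟨y, hYM hy⟩, h3 (Subgroup.mem_subgroupOf.mpr hy), rfl⟩

omit [Finite G] in
theorem mem_pCoreTwoMap_of_commute {M : Subgroup G}
    (hchar : Subgroup.centralizer (pCore 2 ↥M : Set ↥M) ≤ pCore 2 ↥M) {u : G} (huM : u ∈ M)
    (hu : ∀ q ∈ pCoreTwoMap M, q * u = u * q) : u ∈ pCoreTwoMap M := by
  refine ⟨⟨u, huM⟩, hchar ?_, rfl⟩
  rw [Subgroup.mem_centralizer_iff]
  intro q hq
  apply Subtype.ext
  exact hu q ⟨q, hq, rfl⟩

/-- A finite cyclic group has at most one involution. -/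
theorem eq_one_or_eq_of_isCyclic {H : Type*} [Group H] [Finite H] [IsCyclic H] {z w : H}
    (hz1 : z ≠ 1) (hzz : z * z = 1) (hww : w * w = 1) : w = 1 ∨ w = z := by
  classical
  by_contra hne
  push Not at hne
  let _ : Fintype H := Fintype.ofFinite _
  have h1 := IsCyclic.card_pow_eq_one_le (α := H) (n := 2) (by norm_num)
  have h2 : ({1, z, w} : Finset H) ⊆ Finset.univ.filter (fun a : H => a ^ 2 = 1) := by
    intro a ha
    simp only [Finset.mem_insert, Finset.mem_singleton] at ha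
    rw [Finset.mem_filter]
    refine ⟨Finset.mem_univ _, ?_⟩
    rcases ha with rfl | rfl | rfl
    · simp
    · rw [pow_two, hzz]
    · rw [pow_two, hww]
  have h3 : ({1, z, w} : Finset H).card = 3 := by
    rw [Finset.card_insert_of_notMem, Finset.card_insert_of_notMem, Finset.card_singleton]
    · simp only [Finset.mem_singleton]
      exact fun h => hne.2 h.symm
    · simp only [Finset.mem_insert, Finset.mem_singleton, not_or]
      exact ⟨fun h => hz1 h.symm, fun h => hne.1 h.symm⟩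
  have h4 := Finset.card_le_card h2
  omega

/-- If `Z(O_2(M))` is cyclic it contains at most one involution. -/
theorem eq_one_or_eq_of_cyclic_center {M : Subgroup G}
    (hcyc : IsCyclic ↥(Subgroup.center ↥(pCore 2 ↥M))) {ζ w : G}
    (hζ : ζ ∈ pCoreTwoMap M) (hw : w ∈ pCoreTwoMap M)
    (hζc : ∀ q ∈ pCoreTwoMap M, q * ζ = ζ * q) (hwc : ∀ q ∈ pCoreTwoMap M, q * w = w * q)
    (hζ1 : ζ ≠ 1) (hζζ : ζ * ζ = 1) (hww : w * w = 1) : w = 1 ∨ w = ζ := by
  obtain ⟨ζ', hζ', rfl⟩ := hζ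
  obtain ⟨w', hw', rfl⟩ := hw
  have hζZ : (⟨ζ', hζ'⟩ : ↥(pCore 2 ↥M)) ∈ Subgroup.center ↥(pCore 2 ↥M) := by
    rw [Subgroup.mem_center_iff]
    intro q
    apply Subtype.ext; apply Subtype.ext
    exact hζc q.1 ⟨q.1, q.2, rfl⟩
  have hwZ : (⟨w', hw'⟩ : ↥(pCore 2 ↥M)) ∈ Subgroup.center ↥(pCore 2 ↥M) := by
    rw [Subgroup.mem_center_iff]
    intro q
    apply Subtype.ext; apply Subtype.ext
    exact hwc q.1 ⟨q.1, q.2, rfl⟩
  have h := @eq_one_or_eq_of_isCyclic ↥(Subgroup.center ↥(pCore 2 ↥M)) _ _ hcyc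
    ⟨⟨ζ', hζ'⟩, hζZ⟩ ⟨⟨w', hw'⟩, hwZ⟩ ?_ ?_ ?_
  · rcases h with h | h
    · left
      exact congrArg (fun x : ↥(Subgroup.center ↥(pCore 2 ↥M)) =>
        (((x : ↥(pCore 2 ↥M)) : ↥M) : G)) h
    · right
      exact congrArg (fun x : ↥(Subgroup.center ↥(pCore 2 ↥M)) =>
        (((x : ↥(pCore 2 ↥M)) : ↥M) : G)) h
  · intro h
    apply hζ1
    exact congrArg (fun x : ↥(Subgroup.center ↥(pCore 2 ↥M)) =>
      (((x : ↥(pCore 2 ↥M)) : ↥M) : G)) h
  · apply Subtype.ext; apply Subtype.ext; apply Subtype.ext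
    exact hζζ
  · apply Subtype.ext; apply Subtype.ext; apply Subtype.ext
    exact hww

omit [Finite G] in
theorem le_of_maximal_two {R K Y : Subgroup G} (hR : IsPGroup 2 R)
    (hmax : ∀ R' : Subgroup G, IsPGroup 2 R' → R ≤ R' → R' ≤ K → R' = R) (hRK : R ≤ K)
    (hY : IsPGroup 2 Y) (hYK : Y ≤ K) (hRY : R ≤ Subgroup.normalizer (Y : Set G)) : Y ≤ R := by
  have h1 : IsPGroup 2 (R ⊔ Y : Subgroup G) := hR.to_sup_of_normal_right' hY hRY
  have h2 := hmax _ h1 le_sup_left (sup_le hRK hYK)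
  exact le_sup_right.trans (le_of_eq h2)

/-- A maximal 2-local subgroup `M` with `Z(O_2(M))` cyclic is the centralizer of an
involution. -/
theorem exists_centralizer_eq_of_isMaximalTwoLocal {M : Subgroup G} (hM : IsMaximalTwoLocal M)
    (hcyc : IsCyclic ↥(Subgroup.center ↥(pCore 2 ↥M))) :
    ∃ c : G, c ≠ 1 ∧ c * c = 1 ∧ Subgroup.centralizer ({c} : Set G) = M := by
  have : Fact (Nat.Prime 2) := ⟨Nat.prime_two⟩
  obtain ⟨⟨T, hT, hTne, hMT⟩, hmax⟩ := hM
  have hTQ : T ≤ pCoreTwoMap M := by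
    apply le_pCoreTwoMap _ hT
    · intro m hm y hy
      rw [hMT] at hm
      exact (Subgroup.mem_normalizer_iff.mp hm y).mp hy
    · rw [hMT]; exact Subgroup.le_normalizer
  have hQne : pCoreTwoMap M ≠ ⊥ := fun h => hTne (eq_bot_iff.mpr (h ▸ hTQ))
  have hQp : IsPGroup 2 (pCoreTwoMap M) := pCoreTwoMap_isPGroup M
  obtain ⟨w, hwQ, hw1, hwc⟩ := Cfsg.Agent.Lib.Helper53.exists_mem_center_of_normal_subgroup
    hQp le_rfl Subgroup.le_normalizer hQne
  obtain ⟨Z, hZ⟩ : ∃ Z : Subgroup G,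
      Z = pCoreTwoMap M ⊓ Subgroup.centralizer (pCoreTwoMap M : Set G) := ⟨_, rfl⟩
  have hZmem : ∀ x : G, x ∈ Z ↔ x ∈ pCoreTwoMap M ∧ ∀ q ∈ pCoreTwoMap M, q * x = x * q := by
    intro x
    rw [hZ, Subgroup.mem_inf, Subgroup.mem_centralizer_iff]
    rfl
  have hZp : IsPGroup 2 Z := hQp.to_le (by rw [hZ]; exact inf_le_left)
  have hwZ : w ∈ Z := (hZmem w).mpr ⟨hwQ, hwc⟩
  have h2 : 2 ∣ Nat.card Z := by
    rcases hZp.card_eq_or_dvd with h | h
    · exfalso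
      apply hw1
      rw [Subgroup.card_eq_one.mp h] at hwZ
      exact Subgroup.mem_bot.mp hwZ
    · exact h
  obtain ⟨ζ', hζ'⟩ := exists_prime_orderOf_dvd_card' (G := ↥Z) 2 h2
  obtain ⟨ζ, hζ⟩ : ∃ ζ : G, ζ = (ζ' : G) := ⟨_, rfl⟩
  have hζZ : ζ ∈ Z := hζ ▸ ζ'.2
  have hζ1 : ζ ≠ 1 := by
    intro h
    have h3 : ζ' = 1 := Subtype.ext (by rw [← hζ, h]; rfl)
    rw [h3, orderOf_one] at hζ'
    omega
  have hζζ : ζ * ζ = 1 := by
    have h3 : ζ' ^ 2 = 1 := by rw [← hζ']; exact pow_orderOf_eq_one ζ'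
    have h4 := congrArg Subtype.val h3
    rw [hζ, ← pow_two]
    simpa using h4
  obtain ⟨hζQ, hζc⟩ := (hZmem ζ).mp hζZ
  have hMle : M ≤ Subgroup.centralizer ({ζ} : Set G) := by
    intro m hm
    rw [Subgroup.mem_centralizer_singleton_iff]
    have h5 : m * ζ * m⁻¹ ∈ pCoreTwoMap M := pCoreTwoMap_conj_mem hm hζQ
    have h6 : ∀ q ∈ pCoreTwoMap M, q * (m * ζ * m⁻¹) = (m * ζ * m⁻¹) * q := by
      intro q hq
      have h7 : m⁻¹ * q * m⁻¹⁻¹ ∈ pCoreTwoMap M := pCoreTwoMap_conj_mem (M.inv_mem hm) hq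
      have h8 := hζc _ h7
      calc q * (m * ζ * m⁻¹) = m * ((m⁻¹ * q * m⁻¹⁻¹) * ζ) * m⁻¹ := by group
        _ = m * (ζ * (m⁻¹ * q * m⁻¹⁻¹)) * m⁻¹ := by rw [h8]
        _ = _ := by group
    have h9 : (m * ζ * m⁻¹) * (m * ζ * m⁻¹) = 1 := by
      have h' : (m * ζ * m⁻¹) * (m * ζ * m⁻¹) = m * (ζ * ζ) * m⁻¹ := by group
      rw [h', hζζ]; group
    rcases eq_one_or_eq_of_cyclic_center hcyc hζQ h5 hζc h6 hζ1 hζζ h9 with h | h
    · exfalso
      apply hζ1
      have h' : ζ = m⁻¹ * (m * ζ * m⁻¹) * m := by group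
      rw [h', h]; group
    · calc m * ζ = (m * ζ * m⁻¹) * m := by group
        _ = ζ * m := by rw [h]
  exact ⟨ζ, hζ1, hζζ, hmax _ (isTwoLocal_centralizer hζ1 hζζ) hMle⟩

/-- A special involution: an involution whose centralizer is a maximal 2-local subgroup. -/
def IsSpecialInv (c : G) : Prop :=
  c ≠ 1 ∧ c * c = 1 ∧ IsMaximalTwoLocal (Subgroup.centralizer ({c} : Set G))

/-- Let `C(c)` be a maximal 2-local with `Z(O_2(C(c)))` cyclic and `C_{C(c)}(O_2) ≤ O_2`. An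
involution centralizing a Sylow 2-subgroup of `C(c)` is `c`. -/
theorem special_unique
    (hcyc : ∀ M : Subgroup G, IsMaximalTwoLocal M → IsCyclic ↥(Subgroup.center ↥(pCore 2 ↥M)))
    {c : G} {M : Subgroup G} (hM : M = Subgroup.centralizer ({c} : Set G))
    (hc1 : c ≠ 1) (hcc : c * c = 1) (hcM : IsMaximalTwoLocal M)
    (hchar : Subgroup.centralizer (pCore 2 ↥M : Set ↥M) ≤ pCore 2 ↥M)
    {R : Subgroup G} (hR : IsPGroup 2 R) (hRM : R ≤ M)
    (hmax : ∀ R' : Subgroup G, IsPGroup 2 R' → R ≤ R' → R' ≤ M → R' = R)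
    {u : G} (huu : u * u = 1) (huR : ∀ r ∈ R, u * r = r * u) : u = 1 ∨ u = c := by
  have hQR : pCoreTwoMap M ≤ R := le_of_maximal_two hR hmax hRM (pCoreTwoMap_isPGroup M)
    (pCoreTwoMap_le M) (Cfsg.Agent.Lib.Helper53.le_normalizer_of_conj_mem
      (fun r hr x hx => pCoreTwoMap_conj_mem (hRM hr) hx))
  have hcQ : c ∈ pCoreTwoMap M := by
    have h1 : Subgroup.zpowers c ≤ pCoreTwoMap M := by
      apply le_pCoreTwoMap _ (isPGroup_zpowers_of_sq hcc)
      · intro m hm y hy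
        have h2 : m ∈ Subgroup.normalizer (Subgroup.zpowers c : Set G) := by
          rw [normalizer_zpowers_eq_centralizer hc1 hcc, ← hM]; exact hm
        exact (Subgroup.mem_normalizer_iff.mp h2 y).mp hy
      · rw [Subgroup.zpowers_le, hM]
        exact Subgroup.mem_centralizer_singleton_iff.mpr rfl
    exact h1 (Subgroup.mem_zpowers c)
  have hcR : c ∈ R := hQR hcQ
  have huM : u ∈ M := by
    rw [hM, Subgroup.mem_centralizer_singleton_iff]; exact huR c hcR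
  have huc : ∀ q ∈ pCoreTwoMap M, q * u = u * q := fun q hq => (huR q (hQR hq)).symm
  have huQ : u ∈ pCoreTwoMap M := mem_pCoreTwoMap_of_commute hchar huM huc
  have hcc' : ∀ q ∈ pCoreTwoMap M, q * c = c * q := by
    intro q hq
    have h1 := pCoreTwoMap_le M hq
    rw [hM, Subgroup.mem_centralizer_singleton_iff] at h1
    exact h1
  exact eq_one_or_eq_of_cyclic_center (hcyc M hcM) hcQ huQ hcc' huc hc1 hcc huu

/-- Under the cyclic-centre hypothesis a nonabelian simple group has two distinct commuting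
special involutions (uses Glauberman's Z*-theorem). -/
theorem exists_two_special [IsSimpleGroup G] (hG : ¬ IsMulCommutative G) (S : Sylow 2 G)
    (hS : (S : Subgroup G) ≠ ⊥)
    (hcyc : ∀ M : Subgroup G, IsMaximalTwoLocal M → IsCyclic ↥(Subgroup.center ↥(pCore 2 ↥M)))
    (hchar : ∀ c : G, c ≠ 1 → c * c = 1 →
      Subgroup.centralizer (pCore 2 ↥(Subgroup.centralizer ({c} : Set G)) :
        Set ↥(Subgroup.centralizer ({c} : Set G))) ≤ pCore 2 ↥(Subgroup.centralizer ({c} : Set G))) :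
    ∃ c₁ c₂ : G, IsSpecialInv c₁ ∧ IsSpecialInv c₂ ∧ c₁ ≠ c₂ ∧ c₁ * c₂ = c₂ * c₁ := by
  have : Fact (Nat.Prime 2) := ⟨Nat.prime_two⟩
  have hNS : IsTwoLocal (Subgroup.normalizer ((S : Subgroup G) : Set G)) :=
    ⟨S, S.isPGroup', hS, rfl⟩
  obtain ⟨M, hM, hNM⟩ := exists_isMaximalTwoLocal_ge hNS
  obtain ⟨c₀, hc₀1, hc₀c₀, hc₀M⟩ := exists_centralizer_eq_of_isMaximalTwoLocal hM (hcyc M hM)
  have hSc₀ : ∀ s ∈ (S : Subgroup G), s * c₀ = c₀ * s := by
    intro s hs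
    have h1 : s ∈ Subgroup.centralizer ({c₀} : Set G) := by
      rw [hc₀M]; exact hNM (Subgroup.le_normalizer hs)
    exact Subgroup.mem_centralizer_singleton_iff.mp h1
  have hc₀S : c₀ ∈ (S : Subgroup G) := by
    have h1 : Subgroup.zpowers c₀ ≤ (S : Subgroup G) := by
      apply le_of_maximal_two (K := ⊤) S.isPGroup'
        (fun R' hR' hle _ => S.is_maximal' hR' hle) le_top (isPGroup_zpowers_of_sq hc₀c₀) le_top
      rw [normalizer_zpowers_eq_centralizer hc₀1 hc₀c₀]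
      intro s hs
      exact Subgroup.mem_centralizer_singleton_iff.mpr (hSc₀ s hs)
    exact h1 (Subgroup.mem_zpowers c₀)
  have hspec₀ : IsSpecialInv c₀ := ⟨hc₀1, hc₀c₀, by rw [hc₀M]; exact hM⟩
  have hex : ∃ g : G, g * c₀ * g⁻¹ ∈ (S : Subgroup G) ∧ g * c₀ * g⁻¹ ≠ c₀ := by
    by_contra hno
    push Not at hno
    have ho : orderOf c₀ = 2 := orderOf_eq_prime (by rw [pow_two]; exact hc₀c₀) hc₀1
    obtain ⟨N, hNn, hNodd, hN⟩ := Cfsg.Agent.S0215.result S c₀ ho hc₀S hno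
    rcases hNn.eq_bot_or_eq_top with h | h
    · apply hG
      have hcen : c₀ ∈ Subgroup.center G := by
        rw [Subgroup.mem_center_iff]
        intro g
        have h1 := hN g
        rw [h, Subgroup.mem_bot] at h1
        have h' : c₀ * g = (c₀ * g * c₀⁻¹ * g⁻¹) * (g * c₀) := by group
        rw [h', h1, one_mul]
      have hct : Subgroup.center G = ⊤ := by
        rcases Subgroup.Normal.eq_bot_or_eq_top
          (inferInstance : (Subgroup.center G).Normal) with h' | h'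
        · exfalso
          rw [h', Subgroup.mem_bot] at hcen
          exact hc₀1 hcen
        · exact h'
      constructor
      constructor
      intro a b
      have h1 : a ∈ Subgroup.center G := by rw [hct]; trivial
      exact (Subgroup.mem_center_iff.mp h1 b).symm
    · rw [h, Subgroup.card_top] at hNodd
      have h1 : 2 ∣ Nat.card G := ho ▸ orderOf_dvd_natCard c₀
      exact (Nat.not_even_iff_odd.mpr hNodd) (even_iff_two_dvd.mpr h1)
  obtain ⟨g, hgS, hgne⟩ := hex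
  obtain ⟨c₁, hc₁⟩ : ∃ c₁ : G, c₁ = g * c₀ * g⁻¹ := ⟨_, rfl⟩
  rw [← hc₁] at hgS hgne
  have hc₁1 : c₁ ≠ 1 := by
    intro h
    apply hc₀1
    have h' : c₀ = g⁻¹ * (g * c₀ * g⁻¹) * g := by group
    rw [h', ← hc₁, h]; group
  have hc₁c₁ : c₁ * c₁ = 1 := by
    have h' : (g * c₀ * g⁻¹) * (g * c₀ * g⁻¹) = g * (c₀ * c₀) * g⁻¹ := by group
    rw [hc₁, h', hc₀c₀]; group
  obtain ⟨M', hM', hle'⟩ := exists_isMaximalTwoLocal_ge (isTwoLocal_centralizer hc₁1 hc₁c₁)
  obtain ⟨c', hc'1, hc'c', hc'M⟩ :=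
    exists_centralizer_eq_of_isMaximalTwoLocal hM' (hcyc M' hM')
  have hRmem : ∀ x : G, x ∈ ((g • S : Sylow 2 G) : Subgroup G) →
      ∃ s ∈ (S : Subgroup G), x = g * s * g⁻¹ := by
    intro x hx
    rw [Sylow.coe_subgroup_smul, Subgroup.mem_smul_pointwise_iff_exists] at hx
    obtain ⟨s, hs, rfl⟩ := hx
    exact ⟨s, hs, by rw [MulAut.smul_def, MulAut.conj_apply]⟩
  have hcomm : ∀ r ∈ ((g • S : Sylow 2 G) : Subgroup G), c₁ * r = r * c₁ := by
    intro r hr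
    obtain ⟨s, hs, rfl⟩ := hRmem r hr
    have h1 := hSc₀ s hs
    calc c₁ * (g * s * g⁻¹) = g * (c₀ * s) * g⁻¹ := by rw [hc₁]; group
      _ = g * (s * c₀) * g⁻¹ := by rw [h1]
      _ = g * s * g⁻¹ * c₁ := by rw [hc₁]; group
  have hRle : ((g • S : Sylow 2 G) : Subgroup G) ≤ Subgroup.centralizer ({c'} : Set G) := by
    intro r hr
    rw [hc'M]
    apply hle'
    rw [Subgroup.mem_centralizer_singleton_iff]
    exact (hcomm r hr).symm
  rcases special_unique hcyc (M := Subgroup.centralizer ({c'} : Set G)) rfl hc'1 hc'c'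
      (by rw [hc'M]; exact hM') (hchar c' hc'1 hc'c') (g • S : Sylow 2 G).isPGroup' hRle
      (fun R' hR' hle _ => (g • S : Sylow 2 G).is_maximal' hR' hle) hc₁c₁ hcomm with h | h
  · exact absurd h hc₁1
  · refine ⟨c₀, c₁, hspec₀, ⟨hc₁1, hc₁c₁, ?_⟩, hgne.symm, (hSc₀ c₁ hgS).symm⟩
    rw [h, hc'M]; exact hM'

/-- A 2-subgroup centralizing two distinct commuting special involutions. -/
def IsGoodPair (T : Subgroup G) : Prop :=
  ∃ c₁ c₂ : G, IsSpecialInv c₁ ∧ IsSpecialInv c₂ ∧ c₁ ≠ c₂ ∧ c₁ * c₂ = c₂ * c₁ ∧ IsPGroup 2 T ∧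
    T ≤ Subgroup.centralizer ({c₁} : Set G) ∧ T ≤ Subgroup.centralizer ({c₂} : Set G)

theorem exists_grow
    (hcyc : ∀ M : Subgroup G, IsMaximalTwoLocal M → IsCyclic ↥(Subgroup.center ↥(pCore 2 ↥M)))
    (hchar : ∀ c : G, c ≠ 1 → c * c = 1 →
      Subgroup.centralizer (pCore 2 ↥(Subgroup.centralizer ({c} : Set G)) :
        Set ↥(Subgroup.centralizer ({c} : Set G))) ≤ pCore 2 ↥(Subgroup.centralizer ({c} : Set G)))
    {c u : G} (hc : IsSpecialInv c) {T : Subgroup G} (hT : IsPGroup 2 T)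
    (hTc : T ≤ Subgroup.centralizer ({c} : Set G)) (huu : u * u = 1) (hu1 : u ≠ 1) (huc : u ≠ c)
    (huT : ∀ t ∈ T, u * t = t * u) :
    ∃ T₁ : Subgroup G, IsPGroup 2 T₁ ∧ T < T₁ ∧ T₁ ≤ Subgroup.centralizer ({c} : Set G) ∧
      T₁ ≤ Subgroup.normalizer (T : Set G) := by
  have : Fact (Nat.Prime 2) := ⟨Nat.prime_two⟩
  by_cases hmax : ∀ R' : Subgroup G, IsPGroup 2 R' → T ≤ R' →
      R' ≤ Subgroup.centralizer ({c} : Set G) → R' = T
  · exfalso
    rcases special_unique hcyc rfl hc.1 hc.2.1 hc.2.2 (hchar c hc.1 hc.2.1) hT hTc hmax huu huT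
      with h | h
    · exact hu1 h
    · exact huc h
  · push Not at hmax
    obtain ⟨R₁, hR₁, hTR₁, hR₁c, hne⟩ := hmax
    have hlt : T < R₁ := lt_of_le_of_ne hTR₁ (Ne.symm hne)
    obtain ⟨x, hxR, hxT, hxN⟩ := Cfsg.Agent.Lib.Helper53.exists_mem_normalizer_not_mem hR₁ hlt
    refine ⟨R₁ ⊓ Subgroup.normalizer (T : Set G), hR₁.to_le inf_le_left, ?_,
      inf_le_left.trans hR₁c, inf_le_right⟩
    refine lt_of_le_of_ne (le_inf hTR₁ Subgroup.le_normalizer) ?_
    intro h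
    apply hxT
    have h' : x ∈ R₁ ⊓ Subgroup.normalizer (T : Set G) := ⟨hxR, hxN⟩
    exact h.symm.le h'

theorem exists_larger_good
    (hcyc : ∀ M : Subgroup G, IsMaximalTwoLocal M → IsCyclic ↥(Subgroup.center ↥(pCore 2 ↥M)))
    (hchar : ∀ c : G, c ≠ 1 → c * c = 1 →
      Subgroup.centralizer (pCore 2 ↥(Subgroup.centralizer ({c} : Set G)) :
        Set ↥(Subgroup.centralizer ({c} : Set G))) ≤ pCore 2 ↥(Subgroup.centralizer ({c} : Set G)))
    {T : Subgroup G} (hT : IsGoodPair T) :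
    ∃ T' : Subgroup G, IsGoodPair T' ∧ Nat.card T < Nat.card T' := by
  have : Fact (Nat.Prime 2) := ⟨Nat.prime_two⟩
  obtain ⟨c₁, c₂, hs₁, hs₂, hne, hcomm, hTp, hT₁, hT₂⟩ := hT
  have hcard : ∀ T' : Subgroup G, T < T' → Nat.card T < Nat.card T' := by
    intro T' hlt
    by_contra h
    push Not at h
    exact hlt.ne (Subgroup.eq_of_le_of_card_ge hlt.le h)
  by_cases hmax : ∀ T' : Subgroup G, IsPGroup 2 T' → T ≤ T' →
      T' ≤ Subgroup.centralizer ({c₁} : Set G) ⊓ Subgroup.centralizer ({c₂} : Set G) → T' = T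
  · have hc₁T : c₁ ∈ T := by
      have h1 : Subgroup.zpowers c₁ ≤ T := by
        apply le_of_maximal_two hTp hmax (le_inf hT₁ hT₂) (isPGroup_zpowers_of_sq hs₁.2.1)
        · rw [Subgroup.zpowers_le]
          exact ⟨Subgroup.mem_centralizer_singleton_iff.mpr rfl,
            Subgroup.mem_centralizer_singleton_iff.mpr hcomm⟩
        · rw [normalizer_zpowers_eq_centralizer hs₁.1 hs₁.2.1]; exact hT₁
      exact h1 (Subgroup.mem_zpowers c₁)
    have hc₂T : c₂ ∈ T := by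
      have h1 : Subgroup.zpowers c₂ ≤ T := by
        apply le_of_maximal_two hTp hmax (le_inf hT₁ hT₂) (isPGroup_zpowers_of_sq hs₂.2.1)
        · rw [Subgroup.zpowers_le]
          exact ⟨Subgroup.mem_centralizer_singleton_iff.mpr hcomm.symm,
            Subgroup.mem_centralizer_singleton_iff.mpr rfl⟩
        · rw [normalizer_zpowers_eq_centralizer hs₂.1 hs₂.2.1]; exact hT₂
      exact h1 (Subgroup.mem_zpowers c₂)
    have hTne : T ≠ ⊥ := by
      intro h
      rw [h] at hc₁T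
      exact hs₁.1 (Subgroup.mem_bot.mp hc₁T)
    obtain ⟨U₁, hU₁p, hU₁lt, hU₁c, hU₁N⟩ := exists_grow hcyc hchar hs₁ hTp hT₁ hs₂.2.1 hs₂.1
      hne.symm (fun t ht => (Subgroup.mem_centralizer_singleton_iff.mp (hT₂ ht)).symm)
    obtain ⟨U₂, hU₂p, hU₂lt, hU₂c, hU₂N⟩ := exists_grow hcyc hchar hs₂ hTp hT₂ hs₁.2.1 hs₁.1
      hne (fun t ht => (Subgroup.mem_centralizer_singleton_iff.mp (hT₁ ht)).symm)
    obtain ⟨M₃, hM₃, hNM₃⟩ := exists_isMaximalTwoLocal_ge
      (⟨T, hTp, hTne, rfl⟩ : IsTwoLocal (Subgroup.normalizer (T : Set G)))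
    obtain ⟨c₃, hc₃1, hc₃c₃, hc₃M⟩ :=
      exists_centralizer_eq_of_isMaximalTwoLocal hM₃ (hcyc M₃ hM₃)
    have hs₃ : IsSpecialInv c₃ := ⟨hc₃1, hc₃c₃, by rw [hc₃M]; exact hM₃⟩
    have hN₃ : Subgroup.normalizer (T : Set G) ≤ Subgroup.centralizer ({c₃} : Set G) := by
      rw [hc₃M]; exact hNM₃
    by_cases h31 : c₃ = c₁
    · refine ⟨U₂, ⟨c₂, c₃, hs₂, hs₃, ?_, ?_, hU₂p, hU₂c, hU₂N.trans hN₃⟩, hcard U₂ hU₂lt⟩
      · rw [h31]; exact hne.symm
      · exact Subgroup.mem_centralizer_singleton_iff.mp (hN₃ (Subgroup.le_normalizer hc₂T))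
    · refine ⟨U₁, ⟨c₁, c₃, hs₁, hs₃, Ne.symm h31, ?_, hU₁p, hU₁c, hU₁N.trans hN₃⟩,
        hcard U₁ hU₁lt⟩
      exact Subgroup.mem_centralizer_singleton_iff.mp (hN₃ (Subgroup.le_normalizer hc₁T))
  · push Not at hmax
    obtain ⟨T', hT'p, hle, hT'D, hne'⟩ := hmax
    exact ⟨T', ⟨c₁, c₂, hs₁, hs₂, hne, hcomm, hT'p, hT'D.trans inf_le_left,
      hT'D.trans inf_le_right⟩, hcard T' (lt_of_le_of_ne hle (Ne.symm hne'))⟩

/-- The cyclic-centre hypothesis is contradictory in a nonabelian simple group in which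
`C_{C(c)}(O_2(C(c))) ≤ O_2(C(c))` for every involution `c`. -/
theorem false_of_cyclic_centers [IsSimpleGroup G] (hG : ¬ IsMulCommutative G) (S : Sylow 2 G)
    (hS : (S : Subgroup G) ≠ ⊥)
    (hcyc : ∀ M : Subgroup G, IsMaximalTwoLocal M → IsCyclic ↥(Subgroup.center ↥(pCore 2 ↥M)))
    (hchar : ∀ c : G, c ≠ 1 → c * c = 1 →
      Subgroup.centralizer (pCore 2 ↥(Subgroup.centralizer ({c} : Set G)) :
        Set ↥(Subgroup.centralizer ({c} : Set G))) ≤ pCore 2 ↥(Subgroup.centralizer ({c} : Set G))) :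
    False := by
  have hgood : ∀ n : ℕ, ∃ T : Subgroup G, IsGoodPair T ∧ n ≤ Nat.card T := by
    intro n
    induction n with
    | zero =>
      obtain ⟨c₁, c₂, hs₁, hs₂, hne, hcomm⟩ := exists_two_special hG S hS hcyc hchar
      exact ⟨⊥, ⟨c₁, c₂, hs₁, hs₂, hne, hcomm, IsPGroup.of_bot, bot_le, bot_le⟩, Nat.zero_le _⟩
    | succ n ih =>
      obtain ⟨T, hT, hn⟩ := ih
      obtain ⟨T', hT', hlt⟩ := exists_larger_good hcyc hchar hT
      exact ⟨T', hT', by omega⟩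
  obtain ⟨T, -, hT⟩ := hgood (Nat.card G + 1)
  have h1 := Subgroup.card_le_card_group (H := T)
  omega

/-- **S3244.** A nonabelian finite simple group of characteristic 2 type in the early sense has
a maximal 2-local subgroup `M` with `Z(O_2(M))` non-cyclic. -/
theorem exists_maximalTwoLocal_noncyclic_center [IsSimpleGroup G] (hG : ¬ IsMulCommutative G)
    (S : Sylow 2 G) (A : Subgroup G) (hA : Cfsg.IsSCN (S : Subgroup G) A)
    (hA3 : ¬ Cfsg.PRankLE 2 2 ↥A)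
    (hinv : ∀ X : Subgroup G, Odd (Nat.card ↥X) →
      (S : Subgroup G) ≤ Subgroup.normalizer (X : Set G) → X = ⊥)
    (hcon : ∀ T : Subgroup G, IsPGroup 2 ↥T → T ≠ ⊥ →
      Cfsg.IsPConstrained 2 ↥(Subgroup.normalizer (T : Set G))) :
    ∃ M : Subgroup G, Cfsg.IsMaximalTwoLocal M ∧
      ¬ IsCyclic ↥(Subgroup.center ↥(Cfsg.pCore 2 ↥M)) := by
  by_contra hno
  push Not at hno
  have hS : (S : Subgroup G) ≠ ⊥ := by
    intro h
    apply hA3
    intro B _ _
    have hAbot : A = ⊥ := eq_bot_iff.mpr (h ▸ hA.1)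
    have h1 : Subsingleton ↥A := by rw [hAbot]; infer_instance
    have h2 : Nat.card ↥B ≤ 1 := Finite.card_le_one_iff_subsingleton.mpr inferInstance
    omega
  exact false_of_cyclic_centers hG S hS hno
    (fun c hc1 hcc => centralizer_pCore_centralizer_le S A hA hA3 hinv hcon hc1 hcc)

end TwoLocal

end Cfsg.Agent.Lib.Helper65
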