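import Cfsg.Agent.Lib.Helper65.Cover

set_option autoImplicit false

namespace Cfsg.Agent.Lib.Helper65

universe u

/-- Decomposition of an element of finite order into commuting `p'`- and `p`-parts. -/
theorem exists_pPart_decomp {K : Type u} [Group K] (c : K) (hc : orderOf c ≠ 0) (p : ℕ)
    (hp : p.Prime) :
    ∃ (j m' : ℕ) (u v : ℤ), p.Coprime m' ∧ orderOf (c ^ m') = p ^ j ∧ orderOf (c ^ p ^ j) = m' ∧
      c = (c ^ p ^ j) ^ u * (c ^ m') ^ v := by
  obtain ⟨j, m', hm', hm⟩ := Nat.exists_eq_pow_mul_and_not_dvd hc p hp.ne_one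
  have hm'pos : 0 < m' := by
    rcases Nat.eq_zero_or_pos m' with h0 | h0
    · rw [h0] at hm'; exact absurd (dvd_zero p) hm'
    · exact h0
  have hbord : orderOf (c ^ m') = p ^ j := by
    rw [orderOf_pow' c hm'pos.ne', hm, Nat.gcd_eq_right (Dvd.intro_left _ rfl),
      Nat.mul_div_cancel _ hm'pos]
  have hcord : orderOf (c ^ p ^ j) = m' := by
    rw [orderOf_pow' c (pow_ne_zero _ hp.ne_zero), hm, Nat.gcd_eq_right (Dvd.intro _ rfl),
      Nat.mul_div_cancel_left _ (pow_pos hp.pos _)]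
  have hcop : Nat.Coprime p m' := (Nat.Prime.coprime_iff_not_dvd hp).mpr hm'
  have hcop' : IsCoprime ((p ^ j : ℕ) : ℤ) ((m' : ℕ) : ℤ) :=
    Nat.isCoprime_iff_coprime.mpr (Nat.Coprime.pow_left j hcop)
  obtain ⟨u, v, huv⟩ := hcop'
  refine ⟨j, m', u, v, hcop, hbord, hcord, ?_⟩
  have h1 : (c ^ p ^ j) ^ u = c ^ (u * ((p ^ j : ℕ) : ℤ)) := by
    rw [← zpow_natCast, ← zpow_mul, mul_comm]
  have h2 : (c ^ m') ^ v = c ^ (v * ((m' : ℕ) : ℤ)) := by
    rw [← zpow_natCast, ← zpow_mul, mul_comm]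
  rw [h1, h2, ← zpow_add, huv, zpow_one]

section Sylow

theorem mem_smul_sylow_iff {G : Type u} [Group G] {p : ℕ} (g : G) (P : Sylow p G) (u : G) :
    u ∈ ((g • P : Sylow p G) : Subgroup G) ↔ g⁻¹ * u * g ∈ (P : Subgroup G) := by
  rw [Sylow.coe_subgroup_smul, Subgroup.mem_pointwise_smul_iff_inv_smul_mem]
  simp only [MulAut.smul_def, MulAut.conj_inv_apply]

theorem orderOf_eq_pow_of_mem_sylow {G : Type u} [Group G] {p : ℕ} [Fact p.Prime]
    (P : Sylow p G) {x : G} (hx : x ∈ (P : Subgroup G)) :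
    ∃ k : ℕ, orderOf x = p ^ k := by
  obtain ⟨k, hk⟩ := P.isPGroup' ⟨x, hx⟩
  have : x ^ p ^ k = 1 := by
    have := congrArg Subtype.val hk
    simpa using this
  obtain ⟨j, -, hj⟩ := (Nat.dvd_prime_pow Fact.out).mp (orderOf_dvd_of_pow_eq_one this)
  exact ⟨j, hj⟩

variable {G : Type u} [Group G] [Finite G] {p : ℕ} [Fact p.Prime]

/-- If one Sylow `p`-subgroup is commutative then all `p`-subgroups are. -/
theorem pSubgroup_comm_of_sylow_comm (P : Sylow p G)
    (hP : ∀ u ∈ (P : Subgroup G), ∀ v ∈ (P : Subgroup G), u * v = v * u) (Q : Subgroup G)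
    (hQ : IsPGroup p Q) : ∀ u ∈ Q, ∀ v ∈ Q, u * v = v * u := by
  obtain ⟨P', hP'⟩ := hQ.exists_le_sylow
  obtain ⟨g, hg⟩ := MulAction.exists_smul_eq G P P'
  intro u hu v hv
  have hu' : g⁻¹ * u * g ∈ (P : Subgroup G) := by
    rw [← mem_smul_sylow_iff, hg]; exact hP' hu
  have hv' : g⁻¹ * v * g ∈ (P : Subgroup G) := by
    rw [← mem_smul_sylow_iff, hg]; exact hP' hv
  have := hP _ hu' _ hv'
  calc u * v = g * ((g⁻¹ * u * g) * (g⁻¹ * v * g)) * g⁻¹ := by group
    _ = g * ((g⁻¹ * v * g) * (g⁻¹ * u * g)) * g⁻¹ := by rw [this]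
    _ = v * u := by group

omit [Finite G] [Fact (Nat.Prime p)] in
/-- An element of `p`-power order normalizing a Sylow `p`-subgroup lies in it. -/
theorem mem_sylow_of_mem_normalizer (P : Sylow p G) (u : G) (k : ℕ) (hu : orderOf u = p ^ k)
    (hnorm : u ∈ Subgroup.normalizer ((P : Subgroup G) : Set G)) : u ∈ (P : Subgroup G) := by
  have hpg : IsPGroup p (Subgroup.zpowers u) :=
    IsPGroup.of_card (n := k) (by rw [Nat.card_zpowers, hu])
  have h1 := hpg.inf_normalizer_sylow P
  have h2 : u ∈ Subgroup.zpowers u ⊓ Subgroup.normalizer (P : Set G) :=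
    ⟨Subgroup.mem_zpowers u, hnorm⟩
  rw [h1] at h2
  exact h2.2

omit [Finite G] [Fact (Nat.Prime p)] in
/-- An element of `p`-power order centralizing a Sylow `p`-subgroup lies in it. -/
theorem mem_sylow_of_commute (P : Sylow p G) (u : G) (k : ℕ) (hu : orderOf u = p ^ k)
    (hcomm : ∀ v ∈ (P : Subgroup G), u * v = v * u) : u ∈ (P : Subgroup G) := by
  apply mem_sylow_of_mem_normalizer P u k hu
  rw [Subgroup.mem_normalizer_iff]
  intro h
  constructor
  · intro hh
    have : u * h * u⁻¹ = h := by rw [hcomm h hh, mul_inv_cancel_right]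
    rw [this]; exact hh
  · intro hh
    have h3 := hcomm _ hh
    have : u * h * u⁻¹ = h := by
      have h4 : u * (u * h * u⁻¹) = u * h := by
        rw [h3]; group
      exact mul_left_cancel h4
    rw [← this]; exact hh

end Sylow

section Core

variable {G : Type u} [Group G] [Finite G]

/-- Uniqueness of the member of a nilpotent minimal cover containing a nontrivial `p`-element
(centerless group, commutative `p`-subgroups). -/
theorem cover_unique_pElement (hZ : Subgroup.center G = ⊥) (𝓐 : Finset (Subgroup G))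
    (hcov : (∀ A ∈ 𝓐, A ≠ ⊤) ∧ (∀ g : G, ∃ A ∈ 𝓐, g ∈ A))
    (hmin : ∀ 𝓑 : Finset (Subgroup G), (∀ A ∈ 𝓑, A ≠ ⊤) ∧ (∀ g : G, ∃ A ∈ 𝓑, g ∈ A) →
      𝓐.card ≤ 𝓑.card)
    (hnil : ∀ A ∈ 𝓐, Group.IsNilpotent ↥A) (p : ℕ) [Fact p.Prime]
    (hQab : ∀ Q : Subgroup G, IsPGroup p Q → ∀ u ∈ Q, ∀ v ∈ Q, u * v = v * u)
    (x : G) (hx1 : x ≠ 1) (k : ℕ) (hxk : orderOf x = p ^ k) {A B : Subgroup G}
    (hA : A ∈ 𝓐) (hB : B ∈ 𝓐) (hxA : x ∈ A) (hxB : x ∈ B) : A = B := by
  have hM : Subgroup.centralizer ({x} : Set G) ≠ ⊤ := by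
    intro h
    apply hx1
    have hxc : x ∈ Subgroup.center G := by
      rw [Subgroup.mem_center_iff]
      intro g
      have hg : g ∈ Subgroup.centralizer ({x} : Set G) := by rw [h]; exact Subgroup.mem_top g
      rw [Subgroup.mem_centralizer_iff] at hg
      exact (hg x rfl).symm
    rw [hZ, Subgroup.mem_bot] at hxc
    exact hxc
  refine minCover_unique_of_le 𝓐 hcov hmin hM hA hB ?_ ?_
  · intro a ha
    rw [Subgroup.mem_centralizer_iff]
    intro h hh
    rw [Set.mem_singleton_iff] at hh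
    rw [hh]
    exact (nilpotent_commute_pElement p A (hnil A hA) hQab x hxA k hxk a ha).symm
  · intro a ha
    rw [Subgroup.mem_centralizer_iff]
    intro h hh
    rw [Set.mem_singleton_iff] at hh
    rw [hh]
    exact (nilpotent_commute_pElement p B (hnil B hB) hQab x hxB k hxk a ha).symm

/-- An element of order prime to `p` commuting with a nontrivial `p`-element `x` lies in the
member of the cover containing `x`. -/
theorem cover_mem_of_commute_coprime (hZ : Subgroup.center G = ⊥) (𝓐 : Finset (Subgroup G))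
    (hcov : (∀ A ∈ 𝓐, A ≠ ⊤) ∧ (∀ g : G, ∃ A ∈ 𝓐, g ∈ A))
    (hmin : ∀ 𝓑 : Finset (Subgroup G), (∀ A ∈ 𝓑, A ≠ ⊤) ∧ (∀ g : G, ∃ A ∈ 𝓑, g ∈ A) →
      𝓐.card ≤ 𝓑.card)
    (hnil : ∀ A ∈ 𝓐, Group.IsNilpotent ↥A) (p : ℕ) [Fact p.Prime]
    (hQab : ∀ Q : Subgroup G, IsPGroup p Q → ∀ u ∈ Q, ∀ v ∈ Q, u * v = v * u)
    (x : G) (hx1 : x ≠ 1) (k : ℕ) (hxk : orderOf x = p ^ k) {A : Subgroup G}
    (hA : A ∈ 𝓐) (hxA : x ∈ A) (c : G) (hcx : c * x = x * c) (hc : (orderOf c).Coprime p) :
    c ∈ A := by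
  obtain ⟨B, hB, hzB⟩ := hcov.2 (x * c)
  have hcomm : Commute x c := hcx.symm
  have h1 : (x * c) ^ orderOf c = x ^ orderOf c := by
    rw [hcomm.mul_pow, pow_orderOf_eq_one, mul_one]
  have hcop : (orderOf c).Coprime (orderOf x) := by
    rw [hxk]; exact Nat.Coprime.pow_right k hc
  obtain ⟨m, hm⟩ := exists_pow_eq_self_of_coprime hcop
  have hxB : x ∈ B := by
    rw [← hm, ← h1]
    exact B.pow_mem (B.pow_mem hzB _) _
  have hAB : A = B := cover_unique_pElement hZ 𝓐 hcov hmin hnil p hQab x hx1 k hxk hA hB hxA hxB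
  rw [hAB]
  have : c = x⁻¹ * (x * c) := by group
  rw [this]
  exact B.mul_mem (B.inv_mem hxB) hzB

/-- Main structural lemma: a commutative Sylow `p`-subgroup which is nontrivial and is not
(elementary abelian of order greater than `p`) lies in a member `A` of the cover, and its
centralizer is `A`. -/
theorem cover_core1 (hZ : Subgroup.center G = ⊥) (𝓐 : Finset (Subgroup G))
    (hcov : (∀ A ∈ 𝓐, A ≠ ⊤) ∧ (∀ g : G, ∃ A ∈ 𝓐, g ∈ A))
    (hmin : ∀ 𝓑 : Finset (Subgroup G), (∀ A ∈ 𝓑, A ≠ ⊤) ∧ (∀ g : G, ∃ A ∈ 𝓑, g ∈ A) →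
      𝓐.card ≤ 𝓑.card)
    (hnil : ∀ A ∈ 𝓐, Group.IsNilpotent ↥A) {p : ℕ} [Fact p.Prime] (P : Sylow p G)
    (hab : ∀ u ∈ (P : Subgroup G), ∀ v ∈ (P : Subgroup G), u * v = v * u)
    (hPne : (P : Subgroup G) ≠ ⊥)
    (hne : ¬ ((∀ a ∈ (P : Subgroup G), a ^ p = 1) ∧ p < Nat.card (P : Subgroup G))) :
    ∃ A ∈ 𝓐, (P : Subgroup G) ≤ A ∧ Subgroup.centralizer ((P : Subgroup G) : Set G) = A := by
  have hp : p.Prime := Fact.out
  have hQab := pSubgroup_comm_of_sylow_comm P hab
  -- a nontrivial element of P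
  obtain ⟨x1, hx1P, hx11⟩ : ∃ x ∈ (P : Subgroup G), x ≠ 1 := by
    by_contra hcon
    push Not at hcon
    apply hPne
    rw [Subgroup.eq_bot_iff_forall]
    exact hcon
  -- step 1: P lies in a member
  have step1 : ∃ A ∈ 𝓐, (P : Subgroup G) ≤ A := by
    by_cases hel : ∀ a ∈ (P : Subgroup G), a ^ p = 1
    · -- then P has order p
      have hcard : Nat.card (P : Subgroup G) = p := by
        have hle : ¬ p < Nat.card (P : Subgroup G) := fun h => hne ⟨hel, h⟩
        obtain ⟨k, hk⟩ := IsPGroup.iff_card.mp P.isPGroup'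
        have hk0 : k ≠ 0 := by
          intro h0
          rw [h0, pow_zero] at hk
          exact hPne (Subgroup.card_eq_one.mp hk)
        have : p ^ 1 ≤ p ^ k := Nat.pow_le_pow_right hp.pos (by omega)
        rw [pow_one] at this
        rw [hk] at hle ⊢
        omega
      obtain ⟨A, hA, hxA⟩ := hcov.2 x1
      refine ⟨A, hA, ?_⟩
      have htop : Subgroup.zpowers (⟨x1, hx1P⟩ : (P : Subgroup G)) = ⊤ :=
        zpowers_eq_top_of_prime_card hcard (by
          intro h
          exact hx11 (congrArg Subtype.val h))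
      intro y hy
      have : (⟨y, hy⟩ : (P : Subgroup G)) ∈ Subgroup.zpowers (⟨x1, hx1P⟩ : (P : Subgroup G)) := by
        rw [htop]; exact Subgroup.mem_top _
      obtain ⟨i, hi⟩ := Subgroup.mem_zpowers_iff.mp this
      have hy' : y = x1 ^ i := by
        have := congrArg Subtype.val hi
        simpa using this.symm
      rw [hy']
      exact A.zpow_mem hxA i
    · -- P is not elementary abelian
      push Not at hel
      obtain ⟨x0, hx0P, hx0⟩ := hel
      obtain ⟨A, hA, hx0A⟩ := hcov.2 x0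
      refine ⟨A, hA, ?_⟩
      have hw0P : x0 ^ p ∈ (P : Subgroup G) := Subgroup.pow_mem _ hx0P _
      obtain ⟨kw, hkw⟩ := orderOf_eq_pow_of_mem_sylow P hw0P
      -- elements of order dividing p
      have small : ∀ u ∈ (P : Subgroup G), u ^ p = 1 → u ∈ A := by
        intro u hu hup
        obtain ⟨B, hB, hzB⟩ := hcov.2 (x0 * u)
        have hcomm : Commute x0 u := hab x0 hx0P u hu
        have h1 : (x0 * u) ^ p = x0 ^ p := by rw [hcomm.mul_pow, hup, mul_one]
        have hwB : x0 ^ p ∈ B := by rw [← h1]; exact B.pow_mem hzB _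
        have hAB : A = B := cover_unique_pElement hZ 𝓐 hcov hmin hnil p hQab (x0 ^ p) hx0 kw hkw
          hA hB (A.pow_mem hx0A _) hwB
        have : u = x0⁻¹ * (x0 * u) := by group
        rw [this, hAB]
        exact B.mul_mem (B.inv_mem (hAB ▸ hx0A)) hzB
      intro u hu
      by_cases hup : u ^ p = 1
      · exact small u hu hup
      · obtain ⟨k, hk⟩ := orderOf_eq_pow_of_mem_sylow P hu
        have hk1 : 1 ≤ k := by
          by_contra h0
          have : k = 0 := by omega
          rw [this, pow_zero, orderOf_eq_one_iff] at hk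
          rw [hk, one_pow] at hup
          exact hup rfl
        set t := u ^ p ^ (k - 1) with ht
        have htord : orderOf t = p := by
          rw [ht, orderOf_pow' u (pow_ne_zero _ hp.ne_zero), hk,
            Nat.gcd_eq_right (pow_dvd_pow p (by omega)), Nat.pow_div (by omega) hp.pos]
          have : k - (k - 1) = 1 := by omega
          rw [this, pow_one]
        have htP : t ∈ (P : Subgroup G) := Subgroup.pow_mem _ hu _
        have ht1 : t ≠ 1 := by
          intro h
          rw [h, orderOf_one] at htord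
          exact hp.one_lt.ne htord
        have htA : t ∈ A := small t htP (by rw [← htord]; exact pow_orderOf_eq_one t)
        obtain ⟨B, hB, huB⟩ := hcov.2 u
        have htB : t ∈ B := B.pow_mem huB _
        have hAB : A = B := cover_unique_pElement hZ 𝓐 hcov hmin hnil p hQab t ht1 1
          (by rw [pow_one]; exact htord) hA hB htA htB
        rw [hAB]; exact huB
  obtain ⟨A, hA, hPA⟩ := step1
  refine ⟨A, hA, hPA, ?_⟩
  obtain ⟨k1, hk1⟩ := orderOf_eq_pow_of_mem_sylow P hx1P
  apply le_antisymm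
  · -- centralizer ≤ A
    intro c hc
    rw [Subgroup.mem_centralizer_iff] at hc
    obtain ⟨j, m', u, v, hcop, hbord, hcord, hdec⟩ :=
      exists_pPart_decomp c (orderOf_pos c).ne' p hp
    have h2 : c ^ m' ∈ A := by
      apply hPA
      apply mem_sylow_of_commute P _ j hbord
      intro w hw
      have hcw : Commute c w := (hc w hw).symm
      exact (hcw.pow_left m').eq
    have h1 : c ^ p ^ j ∈ A := by
      apply cover_mem_of_commute_coprime hZ 𝓐 hcov hmin hnil p hQab x1 hx11 k1 hk1 hA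
        (hPA hx1P)
      · have hcw : Commute c x1 := (hc x1 hx1P).symm
        exact (hcw.pow_left _).eq
      · rw [hcord]; exact hcop.symm
    rw [hdec]
    exact A.mul_mem (A.zpow_mem h1 u) (A.zpow_mem h2 v)
  · -- A ≤ centralizer
    intro a ha
    rw [Subgroup.mem_centralizer_iff]
    intro w hw
    obtain ⟨kw, hkw⟩ := orderOf_eq_pow_of_mem_sylow P hw
    exact (nilpotent_commute_pElement p A (hnil A hA) hQab w (hPA hw) kw hkw a ha).symm

/-- Two Sylow `p`-subgroups contained in the same member of the cover coincide. -/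
theorem cover_sylow_unique (𝓐 : Finset (Subgroup G))
    (hnil : ∀ A ∈ 𝓐, Group.IsNilpotent ↥A) {p : ℕ} [Fact p.Prime] (P P' : Sylow p G)
    (hab : ∀ u ∈ (P : Subgroup G), ∀ v ∈ (P : Subgroup G), u * v = v * u)
    {A : Subgroup G} (hA : A ∈ 𝓐) (hPA : (P : Subgroup G) ≤ A) (hP'A : (P' : Subgroup G) ≤ A) :
    P' = P := by
  have hQab := pSubgroup_comm_of_sylow_comm P hab
  have hle : (P' : Subgroup G) ≤ (P : Subgroup G) := by
    intro u hu
    obtain ⟨k, hk⟩ := orderOf_eq_pow_of_mem_sylow P' hu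
    apply mem_sylow_of_commute P u k hk
    intro v hv
    exact (nilpotent_commute_pElement p A (hnil A hA) hQab u (hP'A hu) k hk v (hPA hv)).symm
  exact Sylow.ext (P'.is_maximal' P.isPGroup' hle).symm

/-- Full structural lemma for a non-normal commutative Sylow `p`-subgroup `P` that is not
elementary abelian of order greater than `p`, in a centerless group with a nilpotent minimal
cover: `P` lies in a member `A = C_G(P)`, every proper subgroup containing `A` lies in `N_G(P)`,
and `N_G(P)` meets its conjugates by outside elements in subgroups of order prime to `p`. -/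
theorem cover_core (hZ : Subgroup.center G = ⊥) (𝓐 : Finset (Subgroup G))
    (hcov : (∀ A ∈ 𝓐, A ≠ ⊤) ∧ (∀ g : G, ∃ A ∈ 𝓐, g ∈ A))
    (hmin : ∀ 𝓑 : Finset (Subgroup G), (∀ A ∈ 𝓑, A ≠ ⊤) ∧ (∀ g : G, ∃ A ∈ 𝓑, g ∈ A) →
      𝓐.card ≤ 𝓑.card)
    (hnil : ∀ A ∈ 𝓐, Group.IsNilpotent ↥A) {p : ℕ} [Fact p.Prime] (P : Sylow p G)
    (hab : ∀ u ∈ (P : Subgroup G), ∀ v ∈ (P : Subgroup G), u * v = v * u)
    (hnn : ¬ (P : Subgroup G).Normal)
    (hne : ¬ ((∀ a ∈ (P : Subgroup G), a ^ p = 1) ∧ p < Nat.card (P : Subgroup G))) :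
    ∃ A ∈ 𝓐, (P : Subgroup G) ≤ A ∧ Subgroup.centralizer ((P : Subgroup G) : Set G) = A ∧
      (∀ M : Subgroup G, M ≠ ⊤ → A ≤ M →
        M ≤ Subgroup.normalizer ((P : Subgroup G) : Set G)) ∧
      (∀ g : G, g ∉ Subgroup.normalizer ((P : Subgroup G) : Set G) →
        ¬ p ∣ Nat.card ↥(Subgroup.normalizer ((P : Subgroup G) : Set G) ⊓
          (Subgroup.normalizer ((P : Subgroup G) : Set G)).map (MulAut.conj g).toMonoidHom)) := by
  have hp : p.Prime := Fact.out
  have hQab := pSubgroup_comm_of_sylow_comm P hab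
  have hPne : (P : Subgroup G) ≠ ⊥ := by
    intro h
    apply hnn
    rw [h]
    infer_instance
  obtain ⟨A, hA, hPA, hCA⟩ := cover_core1 hZ 𝓐 hcov hmin hnil P hab hPne hne
  -- the same for every conjugate of P
  have hconj : ∀ g : G, ∃ A' ∈ 𝓐, ((g • P : Sylow p G) : Subgroup G) ≤ A' ∧
      Subgroup.centralizer (((g • P : Sylow p G) : Subgroup G) : Set G) = A' := by
    intro g
    have hcard : Nat.card ((g • P : Sylow p G) : Subgroup G) = Nat.card (P : Subgroup G) := by
      rw [Sylow.card_eq_multiplicity, Sylow.card_eq_multiplicity]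
    apply cover_core1 hZ 𝓐 hcov hmin hnil (g • P)
    · exact pSubgroup_comm_of_sylow_comm P hab _ (g • P).isPGroup'
    · intro h
      apply hPne
      rw [← Subgroup.card_eq_one] at h ⊢
      rw [← hcard]; exact h
    · rintro ⟨h1, h2⟩
      apply hne
      refine ⟨?_, by rw [← hcard]; exact h2⟩
      intro a ha
      have hmem : g * a * g⁻¹ ∈ ((g • P : Sylow p G) : Subgroup G) := by
        rw [mem_smul_sylow_iff]
        have : g⁻¹ * (g * a * g⁻¹) * g = a := by group
        rw [this]; exact ha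
      have := h1 _ hmem
      rw [conj_pow] at this
      have h3 : a ^ p = g⁻¹ * (g * a ^ p * g⁻¹) * g := by group
      rw [h3, this]; group
  -- if a conjugate of P lies in A then the conjugating element normalizes P
  have hT : ∀ g : G, ((g • P : Sylow p G) : Subgroup G) ≤ A →
      g ∈ Subgroup.normalizer ((P : Subgroup G) : Set G) := by
    intro g hg
    have := cover_sylow_unique 𝓐 hnil P (g • P) hab hA hPA hg
    exact Sylow.smul_eq_iff_mem_normalizer.mp this
  refine ⟨A, hA, hPA, hCA, ?_, ?_⟩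
  · intro M hM hAM g hgM
    obtain ⟨A', hA', hP'A', hCA'⟩ := hconj g
    have hA'M : A' ≤ M := by
      intro a' ha'
      rw [← hCA', Subgroup.mem_centralizer_iff] at ha'
      have h1 : g⁻¹ * a' * g ∈ A := by
        rw [← hCA, Subgroup.mem_centralizer_iff]
        intro v hv
        have hmem : g * v * g⁻¹ ∈ ((g • P : Sylow p G) : Subgroup G) := by
          rw [mem_smul_sylow_iff]
          have : g⁻¹ * (g * v * g⁻¹) * g = v := by group
          rw [this]; exact hv
        have h2 := ha' _ hmem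
        calc v * (g⁻¹ * a' * g) = g⁻¹ * ((g * v * g⁻¹) * a') * g := by group
          _ = g⁻¹ * (a' * (g * v * g⁻¹)) * g := by rw [h2]
          _ = g⁻¹ * a' * g * v := by group
      have h3 : a' = g * (g⁻¹ * a' * g) * g⁻¹ := by group
      rw [h3]
      exact M.mul_mem (M.mul_mem hgM (hAM h1)) (M.inv_mem hgM)
    have hAA' : A = A' := minCover_unique_of_le 𝓐 hcov hmin hM hA hA' hAM hA'M
    exact hT g (hAA' ▸ hP'A')
  · intro g hg hdvd
    obtain ⟨t, ht⟩ := exists_prime_orderOf_dvd_card' p hdvd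
    have ht0 : orderOf (t : G) = p := by rw [Subgroup.orderOf_coe, ht]
    have htN : (t : G) ∈ Subgroup.normalizer ((P : Subgroup G) : Set G) := t.2.1
    have htN' : (t : G) ∈ (Subgroup.normalizer ((P : Subgroup G) : Set G)).map
        (MulAut.conj g).toMonoidHom := t.2.2
    have ht1 : (t : G) ≠ 1 := by
      intro h
      rw [h, orderOf_one] at ht0
      exact hp.one_lt.ne ht0
    have htP : (t : G) ∈ (P : Subgroup G) :=
      mem_sylow_of_mem_normalizer P _ 1 (by rw [pow_one]; exact ht0) htN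
    obtain ⟨n, hnN, hnt⟩ := Subgroup.mem_map.mp htN'
    have hnt' : g * n * g⁻¹ = (t : G) := by
      simpa using hnt
    have hnord : orderOf n = p := by
      have := MulEquiv.orderOf_eq (MulAut.conj g) n
      rw [MulAut.conj_apply, hnt', ht0] at this
      exact this.symm
    have hnP : n ∈ (P : Subgroup G) :=
      mem_sylow_of_mem_normalizer P _ 1 (by rw [pow_one]; exact hnord) hnN
    have htP' : (t : G) ∈ ((g • P : Sylow p G) : Subgroup G) := by
      rw [mem_smul_sylow_iff, ← hnt']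
      have : g⁻¹ * (g * n * g⁻¹) * g = n := by group
      rw [this]; exact hnP
    obtain ⟨A', hA', hP'A', -⟩ := hconj g
    have hAA' : A = A' := cover_unique_pElement hZ 𝓐 hcov hmin hnil p hQab (t : G) ht1 1
      (by rw [pow_one]; exact ht0) hA hA' (hPA htP) (hP'A' htP')
    exact hg (hT g (hAA' ▸ hP'A'))

end Core

end Cfsg.Agent.Lib.Helper65
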